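import Mathlib
import Cfsg.Agent.Lib.PermChar.Degrees
import Cfsg.Agent.Lib.CharTools.Basic
import Cfsg.Agent.Lib.CharDeep.PrimePowerDegrees

/-!
If all irreducible degrees are less than a prime, the Sylow subgroup for that prime is abelian and normal.
-/

set_option autoImplicit false

open MulAction CfsgLib.Char

namespace CfsgLib.MaxDeg

variable {G : Type*} [Group G] [Fintype G]

/-- A prime exceeding all the degrees: the Sylow subgroup is normal. -/
theorem sylow_normal {p : ℕ} [hp : Fact p.Prime]
    (hb : ∀ χ : Cfsg.IrrCharacter G, degree (χ : G → ℂ) < p) (P : Sylow p G) :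
    (P : Subgroup G).Normal := by
  classical
  have := Fintype.ofFinite (Sylow p G)
  set H := stabilizer G P with hH
  have hsumd := PermChar.sum_nonprincipal_degree (G := G) P
  have hsq := PermChar.sum_nonprincipal_sq (G := G) P
  let q0 : orbitRel.Quotient H (Sylow p G) := Quotient.mk'' P
  have hsum : Fintype.card (Sylow p G) =
      ∑ q : orbitRel.Quotient H (Sylow p G), Nat.card (orbitRel.Quotient.orbit q) := by
    rw [← Nat.card_eq_fintype_card, Nat.card_congr (selfEquivSigmaOrbits' H _), Nat.card_sigma]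
  have hge : ∀ q ∈ Finset.univ.erase q0, p ≤ Nat.card (orbitRel.Quotient.orbit q) := by
    intro q hq
    induction q using Quotient.inductionOn' with
    | h Q =>
      rw [orbitRel.Quotient.orbit_mk]
      have hQ : Q ≠ P := fun e => Finset.ne_of_mem_erase hq (by rw [e])
      obtain ⟨n, hn⟩ := P.isPGroup'.card_orbit Q
      have hle : orbit (P : Subgroup G) Q ⊆ orbit H Q := by
        rintro _ ⟨x, rfl⟩
        exact ⟨⟨x, Sylow.smul_eq_iff_mem_normalizer.2 (Subgroup.le_normalizer x.2)⟩, rfl⟩
      refine le_trans ?_ (Nat.card_mono (Set.toFinite _) hle)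
      rw [hn]
      rcases Nat.eq_zero_or_pos n with h0 | h0
      · exfalso
        rw [h0, pow_zero, Nat.card_eq_one_iff_unique] at hn
        have := hn.1
        refine hQ (Sylow.ext ?_)
        have hfix : ∀ x : (P : Subgroup G), x • Q = Q := fun x =>
          congrArg Subtype.val (Subsingleton.elim (⟨x • Q, mem_orbit _ _⟩ : orbit (P : Subgroup G) Q)
            ⟨Q, mem_orbit_self _⟩)
        have hPN : (P : Subgroup G) ≤ Subgroup.normalizer (Q : Set G) := fun x hx =>
          Sylow.smul_eq_iff_mem_normalizer.1 (hfix ⟨x, hx⟩)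
        have h2 := P.isPGroup'.inf_normalizer_sylow Q
        rw [inf_of_le_left hPN] at h2
        exact P.3 Q.isPGroup' (h2 ▸ inf_le_right)
      · exact Nat.le_self_pow h0.ne' p
  have h0 : Nat.card (orbitRel.Quotient.orbit q0) ≥ 1 := by
    rw [orbitRel.Quotient.orbit_mk]
    have : Nonempty (orbit H P) := ⟨⟨P, mem_orbit_self P⟩⟩
    exact Nat.card_pos
  rw [← Finset.add_sum_erase _ _ (Finset.mem_univ q0)] at hsum
  have h1 := Finset.card_nsmul_le_sum _ _ p hge
  rw [smul_eq_mul, Finset.card_erase_of_mem (Finset.mem_univ _), Finset.card_univ,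
    ← Nat.card_eq_fintype_card] at h1
  set S := ∑ χ ∈ Finset.univ.erase (principalIrr : Cfsg.IrrCharacter G),
    PermChar.mult (Sylow p G) χ.1 * PermChar.mult (Sylow p G) χ.1 with hS
  have h2 : ∑ χ ∈ Finset.univ.erase (principalIrr : Cfsg.IrrCharacter G),
      PermChar.mult (Sylow p G) χ.1 * degree χ.1 ≤ (p - 1) * S := by
    rw [hS, Finset.mul_sum]
    refine Finset.sum_le_sum fun χ _ => ?_
    rcases Nat.eq_zero_or_pos (PermChar.mult (Sylow p G) χ.1) with h | h
    · simp [h]
    · calc _ ≤ PermChar.mult (Sylow p G) χ.1 * (p - 1) :=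
            Nat.mul_le_mul_left _ (by have := hb χ; omega)
        _ ≤ (p - 1) * (PermChar.mult (Sylow p G) χ.1 * PermChar.mult (Sylow p G) χ.1) := by
            rw [mul_comm]; exact Nat.mul_le_mul_left _ (Nat.le_mul_self _)
  rw [show Nat.card (orbitRel.Quotient H (Sylow p G)) = 1 + S from hsq.symm, Nat.add_sub_cancel_left] at h1
  have hS0 : S = 0 := by
    have hp1 := hp.out.one_lt
    have h3 : p * S = (p - 1) * S + S := by rw [← Nat.succ_mul]; congr 1; omega
    rw [mul_comm S p] at h1
    omega
  have hcard : Fintype.card (Sylow p G) = 1 := by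
    rw [hS0, mul_zero] at h2
    omega
  have : Subsingleton (Sylow p G) := Fintype.card_le_one_iff_subsingleton.1 hcard.le
  exact P.normal_of_subsingleton

/-- A prime exceeding all the degrees: the Sylow subgroup is abelian. -/
theorem sylow_comm {p : ℕ} [hp : Fact p.Prime]
    (hb : ∀ χ : Cfsg.IrrCharacter G, degree (χ : G → ℂ) < p) (P : Sylow p G) :
    ∀ x ∈ (P : Subgroup G), ∀ y ∈ (P : Subgroup G), x * y = y * x := by
  classical
  intro x hx y hy
  have key := CharDeep.PPowDeg.comm_of_linear (G := (P : Subgroup G)) (fun ψ => by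
    have := Fintype.ofFinite (P : Subgroup G)
    -- a constituent of the restriction of an irreducible character of degree less than `p`
    have hind : Cfsg.IsCharacter G (Cfsg.indFun (P : Subgroup G) ψ.1) :=
      IsCharacter.indFun _ (IsIrrCharacter.isCharacter ψ.2)
    obtain ⟨χ, hχ, hne⟩ := CfsgLib.Clifford.exists_constituent hind (by
      rw [indFun_apply_one]
      exact mul_ne_zero (Nat.cast_ne_zero.2 Subgroup.index_ne_zero_of_finite)
        (IsIrrCharacter.apply_one_ne_zero ψ.2))
    rw [classInner_indFun _ _ χ (IsIrrCharacter.isClassFunction hχ)] at hne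
    have hres : Cfsg.IsCharacter (P : Subgroup G) (fun n : (P : Subgroup G) => χ n) :=
      CfsgLib.Clifford.isCharacter_res (IsIrrCharacter.isCharacter hχ) _
    have hne' : Cfsg.classInner (fun n : (P : Subgroup G) => χ n) ψ.1 ≠ 0 := by
      rw [← classInner_conj_symm]
      exact (map_ne_zero _).2 hne
    choose m hm using fun η : Cfsg.IrrCharacter (P : Subgroup G) =>
      IsCharacter.exists_nat_classInner hres η.2
    have he := congrFun (IsCharacter.eq_sum_classInner hres) 1
    simp only [Finset.sum_apply, Pi.smul_apply, smul_eq_mul, hm,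
      fun η : Cfsg.IrrCharacter (P : Subgroup G) =>
        (IsCharacter.degree_cast (IsIrrCharacter.isCharacter η.2)).symm] at he
    have he' : degree χ = ∑ η : Cfsg.IrrCharacter (P : Subgroup G), m η * degree η.1 := by
      have h := IsCharacter.degree_cast (IsIrrCharacter.isCharacter hχ)
      rw [Subgroup.coe_one] at he
      rw [← h] at he
      exact_mod_cast he
    have hle : degree ψ.1 ≤ degree χ := by
      rw [he']
      refine le_trans ?_ (Finset.single_le_sum (fun _ _ => Nat.zero_le _) (Finset.mem_univ ψ))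
      refine Nat.le_mul_of_pos_left _ (Nat.pos_of_ne_zero fun h0 => hne' ?_)
      rw [hm, h0, Nat.cast_zero]
    have hdvd : degree ψ.1 ∣ Nat.card (P : Subgroup G) := CfsgLib.CharTools.degree_dvd_card ψ
    obtain ⟨k, hk⟩ := IsPGroup.iff_card.1 P.isPGroup'
    rw [hk, Nat.dvd_prime_pow hp.out] at hdvd
    obtain ⟨j, -, hj⟩ := hdvd
    have hj0 : j = 0 := by
      by_contra h
      have h4 : p ≤ degree ψ.1 := hj ▸ Nat.le_self_pow h p
      have : degree χ < p := hb ⟨χ, hχ⟩
      omega
    rw [← IsCharacter.degree_cast (IsIrrCharacter.isCharacter ψ.2), hj, hj0, pow_zero, Nat.cast_one])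
    ⟨x, hx⟩ ⟨y, hy⟩
  exact congrArg Subtype.val key

end CfsgLib.MaxDeg
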